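import Cfsg.Agent.Schur.TwoCert

/-!
Certificate data for the Schur multiplier of the Held group.
-/

set_option autoImplicit false
set_option maxRecDepth 100000

namespace CfsgLib.HeMult

/-- letters of the certificate as words in the seven generators -/
def twoWords : List (List ℕ) := [
  [0,1,0,1,5,3,2,3,5,6,3,2,3,6,5,3,2,3,5,6,3,2,3,6,1,0,1,5,3,2,3,5,6,3,2,3,6,5,3,2,3,5,6,3,2,3,6],
  [0,1,0,1],
  [1,6,3,2,3,6,5,3,2,3,5,6,3,2,3,6,1,0,1,6,3,2,3,6,5,3,2,3,5,6,3,2,3,6,1],
  [0],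
  [0,5,3,2,3,5,6,3,2,3,6,5,3,2,3,5,1,6,3,2,3,6,5,3,2,3,5,1,0,1,5,3,2,3,5,6,3,2,3,6,1,5,3,2,3,5,6,3,2,3,6,5,3,2,3,5],
  [5,3,2,3,5],
  [1,0,1,5,3,2,3,5,1,6,3,2,3,6,5,3,2,3,5,1,0,1,5,3,2,3,5,6,3,2,3,6,1,5,3,2,3,5],
  [0,1,0,1,5,3,2,3,5,6,3,2,3,6,5,3,2,3,5,6,3,2,3,6,1,0,1],
  [6,3,2,3,6,5,3,2,3,5,1,6,3,2,3,6,5,3,2,3,5,1,0,6,3,2,3,6,1,0],
  [0,1,0,1,6,3,2,3,6,1,0,1,6,3,2,3,6],
  [5,2,3,0,1,2,3,6,3,2,1,3,1,2,3,6,3,2,1,0,3,2,3,2,3,0,1,2,3,6,3,2,1,3,1,2,3,6,3,2,1,0,3,2,5,3,2,3,0,1,2,3,6,3,2,1,3,1,2,3,6,3,2,1,0,2,3,0,1,2,3,6,3,2,1,3,1,2,3,6,3,2,1,0,3,5,1,2,3,2,3,6],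
  [3,2,3,0,1,2,3,6,3,2,1,3,1,2,3,6,3,2,1,0,3,2,5,3,2,3,0,1,2,3,6,3,2,1,3,1,2,3,6,3,2,1,0,3,2,3,2,3,2,0,1,2,3,6,3,2,1,3,2,4,3]]

/-- the rewriting rules -/
def rules : List (List ℕ × List ℕ) := [
  ([0,0],[]),
  ([0,1],[1,0]),
  ([1,1],[]),
  ([0,2],[2,0]),
  ([1,2],[2,1]),
  ([2,2],[]),
  ([0,3],[3,0]),
  ([1,3],[3,1]),
  ([2,3],[3,2]),
  ([3,3],[]),
  ([0,4],[4,0]),
  ([1,4],[4,1]),
  ([2,4],[4,2]),
  ([3,4],[4,3,0]),
  ([4,4],[0]),
  ([0,5],[5,0]),
  ([1,5],[5,2,1,0]),
  ([2,5],[5,2]),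
  ([3,5],[5,3]),
  ([4,5],[5,4,2,0]),
  ([5,5],[]),
  ([0,6],[6,0]),
  ([1,6],[6,1,0]),
  ([2,6],[6,2]),
  ([3,6],[6,3,0]),
  ([4,6],[6,4]),
  ([5,6],[6,5]),
  ([6,6],[]),
  ([0,7],[7,0]),
  ([1,7],[7,3,1,0]),
  ([2,7],[7,2]),
  ([3,7],[7,3]),
  ([4,7],[7,6,2,1]),
  ([5,7],[7,5]),
  ([6,7],[7,4,3,2,1,0]),
  ([7,7],[]),
  ([0,8],[8,0]),
  ([1,8],[8,6,3,1]),
  ([2,8],[8,2]),
  ([3,8],[8,6,4,1]),
  ([4,8],[8,6,4,3,2,0]),
  ([5,8],[8,5,2,0]),
  ([6,8],[8,4,3,2,1,0]),
  ([7,8],[8,7,5,3,2,0]),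
  ([8,8],[6,5,3]),
  ([0,9],[9,0]),
  ([1,9],[9,1]),
  ([2,9],[9,2,0]),
  ([3,9],[9,3]),
  ([4,9],[9,4,0]),
  ([5,9],[9,6,5,4,3,2,1,0]),
  ([6,9],[9,6]),
  ([7,9],[9,7]),
  ([8,9],[9,8,6,0]),
  ([9,9],[]),
  ([10,0],[6,4,3,1,10]),
  ([10,1],[9,1,0,10]),
  ([10,6],[6,5,4,3,2,1,10]),
  ([10,3,2],[9,8,7,6,4,1,10]),
  ([10,4,2],[8,7,6,2,1,10]),
  ([10,9,2],[8,7,4,3,2,10]),
  ([10,8,7,5],[8,4,3,2,0,10]),
  ([11,0],[6,4,3,2,1,0,11]),
  ([11,2],[6,5,4,3,2,1,0,11]),
  ([11,3],[7,6,5,4,3,2,1,11]),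
  ([11,5],[5,2,0,11]),
  ([11,6],[6,5,2,11]),
  ([11,4,1],[7,5,4,3,1,0,11]),
  ([11,7],[7,6,5,4,1,0,11]),
  ([11,9],[9,7,5,4,1,0,11]),
  ([11,8,1],[8,5,3,2,1,0,11])]

/-- a word rewritten in two ways -/
def eq0 : List ℕ × List (ℕ × ℕ × Bool) × List (ℕ × ℕ × Bool) :=
  ([0,1,5],
   [(0,1,true),(1,15,true),(0,16,true),(3,0,true)],
   [(1,16,true),(0,15,true),(1,3,true),(2,1,true),(3,0,true)])

/-- a word rewritten in two ways -/
def eq1 : List ℕ × List (ℕ × ℕ × Bool) × List (ℕ × ℕ × Bool) :=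
  ([0,1,7],
   [(0,1,true),(1,28,true),(0,29,true),(3,0,true)],
   [(1,29,true),(0,28,true),(1,6,true),(2,1,true),(3,0,true)])

/-- a word rewritten in two ways -/
def eq2 : List ℕ × List (ℕ × ℕ × Bool) × List (ℕ × ℕ × Bool) :=
  ([0,1,8],
   [(0,1,true),(1,36,true),(0,37,true)],
   [(1,37,true),(0,36,true),(1,21,true),(2,6,true),(3,1,true)])

/-- a word rewritten in two ways -/
def eq3 : List ℕ × List (ℕ × ℕ × Bool) × List (ℕ × ℕ × Bool) :=
  ([0,3,8],
   [(0,6,true),(1,36,true),(0,39,true)],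
   [(1,39,true),(0,36,true),(1,21,true),(2,10,true),(3,1,true)])

/-- a word rewritten in two ways -/
def eq4 : List ℕ × List (ℕ × ℕ × Bool) × List (ℕ × ℕ × Bool) :=
  ([0,7,8],
   [(0,28,true),(1,36,true),(0,43,true),(5,0,true)],
   [(1,43,true),(0,36,true),(1,28,true),(2,15,true),(3,6,true),(4,3,true),(5,0,true)])

/-- a word rewritten in two ways -/
def eq5 : List ℕ × List (ℕ × ℕ × Bool) × List (ℕ × ℕ × Bool) :=
  ([1,1,5],
   [(0,2,true)],
   [(1,16,true),(0,16,true),(3,3,true),(2,4,true),(1,5,true),(2,1,true),(1,2,true),(1,0,true)])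

/-- a word rewritten in two ways -/
def eq6 : List ℕ × List (ℕ × ℕ × Bool) × List (ℕ × ℕ × Bool) :=
  ([1,1,6],
   [(0,2,true)],
   [(1,22,true),(0,22,true),(2,1,true),(1,2,true),(1,0,true)])

/-- a word rewritten in two ways -/
def eq7 : List ℕ × List (ℕ × ℕ × Bool) × List (ℕ × ℕ × Bool) :=
  ([1,1,7],
   [(0,2,true)],
   [(1,29,true),(0,29,true),(3,6,true),(2,7,true),(1,9,true),(2,1,true),(1,2,true),(1,0,true)])

/-- a word rewritten in two ways -/
def eq8 : List ℕ × List (ℕ × ℕ × Bool) × List (ℕ × ℕ × Bool) :=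
  ([1,1,8],
   [(0,2,true)],
   [(1,37,true),(0,37,true),(3,22,true),(2,24,true),(1,27,true),(2,1,true),(3,0,true),(2,7,true),(1,9,true),(1,2,true)])

/-- a word rewritten in two ways -/
def eq9 : List ℕ × List (ℕ × ℕ × Bool) × List (ℕ × ℕ × Bool) :=
  ([1,2,7],
   [(0,4,true),(1,29,true),(0,30,true),(1,8,true)],
   [(1,30,true),(0,29,true),(3,3,true),(2,4,true)])

/-- a word rewritten in two ways -/
def eq10 : List ℕ × List (ℕ × ℕ × Bool) × List (ℕ × ℕ × Bool) :=
  ([1,2,8],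
   [(0,4,true),(1,37,true),(0,38,true),(1,23,true),(2,8,true)],
   [(1,38,true),(0,37,true),(3,4,true)])

/-- a word rewritten in two ways -/
def eq11 : List ℕ × List (ℕ × ℕ × Bool) × List (ℕ × ℕ × Bool) :=
  ([1,2,9],
   [(0,4,true),(1,46,true),(0,47,true),(2,1,true)],
   [(1,47,true),(0,46,true),(1,4,true)])

/-- a word rewritten in two ways -/
def eq12 : List ℕ × List (ℕ × ℕ × Bool) × List (ℕ × ℕ × Bool) :=
  ([1,3,8],
   [(0,7,true),(1,37,true),(0,39,true),(3,22,true),(2,25,true),(1,27,true),(3,6,true),(2,7,true),(4,1,true),(3,2,true)],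
   [(1,39,true),(0,37,true),(3,22,true),(2,24,true),(1,27,true),(2,1,true),(3,0,true),(2,11,true),(1,13,true),(3,1,true),(4,1,true),(3,2,true)])

/-- a word rewritten in two ways -/
def eq13 : List ℕ × List (ℕ × ℕ × Bool) × List (ℕ × ℕ × Bool) :=
  ([1,4,5],
   [(0,11,true),(1,16,true),(0,19,true),(3,3,true),(2,5,true),(2,1,true),(3,0,true)],
   [(1,19,true),(0,16,true),(3,10,true),(2,11,true),(1,12,true),(4,3,true),(3,4,true),(2,5,true),(3,0,true)])

/-- a word rewritten in two ways -/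
def eq14 : List ℕ × List (ℕ × ℕ × Bool) × List (ℕ × ℕ × Bool) :=
  ([1,4,7],
   [(0,11,true),(1,29,true),(0,32,true),(3,7,true),(2,8,true),(4,2,true)],
   [(1,32,true),(0,29,true),(3,21,true),(2,22,true),(1,24,true),(3,1,true),(4,0,true),(4,3,true),(3,4,true),(5,1,true),(4,2,true)])

/-- a word rewritten in two ways -/
def eq15 : List ℕ × List (ℕ × ℕ × Bool) × List (ℕ × ℕ × Bool) :=
  ([1,5,5],
   [(0,16,true),(3,15,true),(2,16,true),(1,17,true),(0,20,true),(0,5,true),(1,0,true)],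
   [(1,20,true)])

/-- a word rewritten in two ways -/
def eq16 : List ℕ × List (ℕ × ℕ × Bool) × List (ℕ × ℕ × Bool) :=
  ([1,5,7],
   [(0,16,true),(3,28,true),(2,29,true),(1,30,true),(0,33,true),(2,8,true),(5,0,true)],
   [(1,33,true),(0,29,true),(3,15,true),(2,16,true),(1,18,true),(5,0,true)])

/-- a word rewritten in two ways -/
def eq17 : List ℕ × List (ℕ × ℕ × Bool) × List (ℕ × ℕ × Bool) :=
  ([1,5,8],
   [(0,16,true),(3,36,true),(2,37,true),(1,38,true),(0,41,true),(3,3,true),(2,5,true),(2,21,true),(1,26,true),(3,6,true),(4,1,true),(5,0,true)],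
   [(1,41,true),(0,37,true),(3,16,true),(2,18,true),(6,3,true),(5,4,true),(4,5,true),(5,0,true)])

/-- a word rewritten in two ways -/
def eq18 : List ℕ × List (ℕ × ℕ × Bool) × List (ℕ × ℕ × Bool) :=
  ([1,5,9],
   [(0,16,true),(3,45,true),(2,46,true),(1,47,true),(0,50,true),(7,3,true),(6,4,true),(5,5,true),(6,0,true),(5,2,true)],
   [(1,50,true),(0,46,true),(1,22,true),(3,15,true),(2,16,true),(5,0,true),(4,11,true),(3,12,true),(5,7,true),(4,8,true),(6,4,true),(5,5,true),(5,2,true)])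

/-- a word rewritten in two ways -/
def eq19 : List ℕ × List (ℕ × ℕ × Bool) × List (ℕ × ℕ × Bool) :=
  ([1,6,7],
   [(0,22,true),(2,28,true),(1,29,true),(0,34,true),(5,6,true),(4,7,true),(3,8,true),(2,9,true),(4,1,true),(3,2,true),(3,0,true)],
   [(1,34,true),(0,29,true),(3,10,true),(2,11,true),(1,13,true),(3,1,true),(4,0,true),(3,7,true),(2,9,true),(2,4,true),(3,2,true)])

/-- a word rewritten in two ways -/
def eq20 : List ℕ × List (ℕ × ℕ × Bool) × List (ℕ × ℕ × Bool) :=
  ([1,6,8],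
   [(0,22,true),(2,36,true),(1,37,true),(0,42,true),(5,21,true),(4,22,true),(3,23,true),(2,24,true),(1,25,true),(4,3,true),(5,1,true),(6,0,true),(6,6,true),(5,7,true),(4,8,true),(3,9,true),(5,1,true),(4,2,true),(4,0,true)],
   [(1,42,true),(0,37,true),(3,11,true),(2,13,true),(4,1,true),(5,6,true),(4,7,true),(3,9,true),(4,3,true),(3,4,true),(5,1,true),(4,2,true),(4,0,true)])

/-- a word rewritten in two ways -/
def eq21 : List ℕ × List (ℕ × ℕ × Bool) × List (ℕ × ℕ × Bool) :=
  ([1,6,9],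
   [(0,22,true),(2,45,true),(1,46,true),(0,51,true)],
   [(1,51,true),(0,46,true),(1,22,true)])

/-- a word rewritten in two ways -/
def eq22 : List ℕ × List (ℕ × ℕ × Bool) × List (ℕ × ℕ × Bool) :=
  ([1,7,7],
   [(0,29,true),(3,28,true),(2,29,true),(1,31,true),(0,35,true),(0,9,true),(1,0,true)],
   [(1,35,true)])

/-- a word rewritten in two ways -/
def eq23 : List ℕ × List (ℕ × ℕ × Bool) × List (ℕ × ℕ × Bool) :=
  ([1,7,8],
   [(0,29,true),(3,36,true),(2,37,true),(1,39,true),(0,43,true),(5,21,true),(4,23,true),(3,24,true),(2,26,true),(5,3,true),(6,0,true),(5,12,true),(4,13,true),(6,3,true),(7,1,true),(8,21,true),(7,22,true),(6,23,true),(5,24,true),(4,25,true),(3,26,true),(2,27,true),(5,3,true),(6,1,true),(7,0,true),(7,6,true),(6,7,true),(5,8,true),(4,9,true),(6,1,true),(5,2,true),(5,0,true)],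
   [(1,43,true),(0,37,true),(3,29,true),(2,31,true),(1,34,true),(6,6,true),(5,7,true),(4,8,true),(3,9,true),(5,6,true),(4,7,true),(3,8,true),(6,1,true),(5,2,true),(5,0,true),(4,17,true),(3,18,true),(2,19,true),(5,6,true),(4,8,true),(6,3,true),(5,5,true),(5,6,true),(4,9,true),(4,3,true),(5,0,true)])

/-- a word rewritten in two ways -/
def eq24 : List ℕ × List (ℕ × ℕ × Bool) × List (ℕ × ℕ × Bool) :=
  ([1,7,9],
   [(0,29,true),(3,45,true),(2,46,true),(1,48,true),(0,52,true)],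
   [(1,52,true),(0,46,true),(1,29,true)])

/-- a word rewritten in two ways -/
def eq25 : List ℕ × List (ℕ × ℕ × Bool) × List (ℕ × ℕ × Bool) :=
  ([1,8,8],
   [(0,37,true),(3,37,true),(2,39,true),(1,42,true),(0,44,true),(2,13,true),(4,6,true),(3,9,true),(3,3,true),(4,1,true),(5,0,true),(4,22,true),(3,23,true),(2,25,true),(1,26,true),(0,27,true),(4,10,true),(3,11,true),(2,12,true),(1,14,true),(1,3,true),(2,1,true),(3,0,true),(2,2,true),(1,23,true),(0,26,true),(2,8,true)],
   [(1,44,true),(0,22,true),(2,15,true),(1,16,true),(4,0,true),(3,7,true),(2,8,true)])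

/-- a word rewritten in two ways -/
def eq26 : List ℕ × List (ℕ × ℕ × Bool) × List (ℕ × ℕ × Bool) :=
  ([1,8,9],
   [(0,37,true),(3,46,true),(2,48,true),(1,51,true),(0,53,true),(3,21,true),(2,27,true),(2,6,true),(3,1,true)],
   [(1,53,true),(0,46,true),(1,37,true),(4,22,true),(3,24,true),(2,27,true),(3,1,true),(4,0,true)])

/-- a word rewritten in two ways -/
def eq27 : List ℕ × List (ℕ × ℕ × Bool) × List (ℕ × ℕ × Bool) :=
  ([2,7,8],
   [(0,30,true),(1,38,true),(0,43,true),(5,3,true),(4,5,true)],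
   [(1,43,true),(0,38,true),(1,30,true),(2,17,true),(3,8,true),(4,5,true)])

/-- a word rewritten in two ways -/
def eq28 : List ℕ × List (ℕ × ℕ × Bool) × List (ℕ × ℕ × Bool) :=
  ([2,7,9],
   [(0,30,true),(1,47,true),(0,52,true)],
   [(1,52,true),(0,47,true),(2,28,true),(1,30,true)])

/-- a word rewritten in two ways -/
def eq29 : List ℕ × List (ℕ × ℕ × Bool) × List (ℕ × ℕ × Bool) :=
  ([3,3,8],
   [(0,9,true)],
   [(1,39,true),(0,39,true),(3,22,true),(2,25,true),(1,27,true),(3,10,true),(2,11,true),(1,14,true),(1,1,true),(2,0,true),(1,2,true)])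

/-- a word rewritten in two ways -/
def eq30 : List ℕ × List (ℕ × ℕ × Bool) × List (ℕ × ℕ × Bool) :=
  ([3,5,8],
   [(0,18,true),(1,39,true),(0,41,true),(3,21,true),(2,23,true),(1,26,true),(4,10,true),(3,12,true),(5,1,true)],
   [(1,41,true),(0,39,true),(3,16,true),(2,19,true),(5,3,true),(4,5,true),(4,1,true),(5,0,true),(4,4,true)])

/-- a word rewritten in two ways -/
def eq31 : List ℕ × List (ℕ × ℕ × Bool) × List (ℕ × ℕ × Bool) :=
  ([3,7,8],
   [(0,31,true),(1,39,true),(0,43,true),(5,21,true),(4,23,true),(3,24,true),(2,26,true),(5,3,true),(6,0,true),(5,12,true),(4,13,true),(6,3,true),(7,1,true)],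
   [(1,43,true),(0,39,true),(3,29,true),(2,32,true),(1,34,true),(6,21,true),(5,22,true),(4,23,true),(3,24,true),(2,25,true),(5,3,true),(6,1,true),(7,0,true),(7,3,true),(6,4,true),(5,5,true),(6,1,true),(5,2,true),(5,6,true),(4,9,true),(4,1,true),(5,0,true),(4,16,true),(3,19,true),(6,3,true),(5,5,true),(5,1,true),(6,0,true),(5,7,true),(6,4,true)])

/-- a word rewritten in two ways -/
def eq32 : List ℕ × List (ℕ × ℕ × Bool) × List (ℕ × ℕ × Bool) :=
  ([3,8,8],
   [(0,39,true),(3,37,true),(2,40,true),(1,42,true),(0,44,true),(2,13,true),(4,6,true),(3,9,true),(3,3,true),(4,1,true),(5,0,true),(4,22,true),(3,23,true),(2,25,true),(1,26,true),(0,27,true),(4,10,true),(3,11,true),(2,12,true),(1,14,true),(1,3,true),(2,1,true),(3,0,true),(2,7,true),(1,8,true),(3,4,true),(2,5,true),(3,21,true),(2,22,true),(1,24,true),(0,26,true),(3,1,true),(4,0,true),(4,6,true),(3,7,true),(2,9,true),(3,1,true),(2,2,true)],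
   [(1,44,true),(0,24,true),(2,15,true),(1,18,true),(3,6,true),(2,9,true)])

/-- a word rewritten in two ways -/
def eq33 : List ℕ × List (ℕ × ℕ × Bool) × List (ℕ × ℕ × Bool) :=
  ([3,8,9],
   [(0,39,true),(3,46,true),(2,49,true),(1,51,true),(0,53,true),(3,21,true),(2,27,true),(2,10,true),(3,0,true)],
   [(1,53,true),(0,48,true),(1,39,true),(4,22,true),(3,25,true),(2,27,true),(4,0,true)])

/-- a word rewritten in two ways -/
def eq34 : List ℕ × List (ℕ × ℕ × Bool) × List (ℕ × ℕ × Bool) :=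
  ([7,7,8],
   [(0,35,true)],
   [(1,43,true),(0,43,true),(5,28,true),(4,30,true),(3,31,true),(2,33,true),(1,35,true),(4,15,true),(3,17,true),(2,18,true),(1,20,true),(3,6,true),(2,8,true),(1,9,true),(2,3,true),(1,5,true),(1,0,true)])

/-- a word rewritten in two ways -/
def eq35 : List ℕ × List (ℕ × ℕ × Bool) × List (ℕ × ℕ × Bool) :=
  ([7,8,8],
   [(0,43,true),(5,36,true),(4,38,true),(3,39,true),(2,41,true),(1,43,true),(0,44,true),(2,31,true),(1,33,true),(0,34,true),(5,15,true),(4,16,true),(3,17,true),(2,18,true),(1,19,true),(4,6,true),(3,8,true),(5,3,true),(4,5,true),(4,3,true),(5,1,true),(6,0,true),(6,6,true),(5,7,true),(4,8,true),(3,9,true),(5,15,true),(4,16,true),(3,17,true),(2,19,true),(1,20,true),(3,3,true),(2,5,true),(2,3,true),(3,1,true),(4,0,true),(4,6,true),(3,7,true),(2,8,true),(5,3,true),(4,4,true),(3,5,true),(4,0,true),(3,16,true),(2,18,true),(1,19,true),(4,6,true),(3,8,true),(5,3,true),(4,5,true),(4,1,true),(5,0,true),(4,4,true),(6,21,true),(5,22,true),(4,23,true),(3,24,true),(2,25,true),(1,26,true),(5,3,true),(6,1,true),(7,0,true),(7,10,true),(6,11,true),(5,12,true),(4,13,true),(3,14,true),(3,6,true),(4,0,true),(6,1,true),(5,2,true),(5,3,true),(4,5,true),(4,0,true)],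
   [(1,44,true)])

/-- a word rewritten in two ways -/
def eq36 : List ℕ × List (ℕ × ℕ × Bool) × List (ℕ × ℕ × Bool) :=
  ([7,8,9],
   [(0,43,true),(5,45,true),(4,47,true),(3,48,true),(2,50,true),(1,52,true),(0,53,true),(3,28,true),(2,34,true),(7,0,true),(6,22,true),(5,23,true),(4,24,true),(3,25,true),(6,3,true),(7,1,true),(8,0,true),(7,16,true),(6,17,true),(5,18,true),(4,19,true),(7,6,true),(6,8,true),(8,3,true),(7,5,true),(7,3,true),(8,1,true),(9,0,true),(8,11,true),(7,12,true),(6,13,true),(5,14,true),(5,6,true),(6,0,true),(7,7,true),(6,8,true),(5,9,true),(6,4,true),(5,5,true),(5,2,true),(5,6,true),(6,3,true),(7,0,true)],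
   [(1,53,true),(0,52,true),(1,43,true),(6,21,true),(5,23,true),(4,24,true),(3,26,true),(6,3,true),(7,0,true)])

/-- a word rewritten in two ways -/
def eq37 : List ℕ × List (ℕ × ℕ × Bool) × List (ℕ × ℕ × Bool) :=
  ([10,1,1],
   [(1,2,true)],
   [(0,56,true),(3,56,true),(2,45,true),(1,46,true),(0,54,true),(1,1,true),(0,2,true),(0,0,true)])

/-- a word rewritten in two ways -/
def eq38 : List ℕ × List (ℕ × ℕ × Bool) × List (ℕ × ℕ × Bool) :=
  ([10,1,6],
   [(1,22,true)],
   [(0,56,true),(3,57,true),(2,21,true),(1,22,true),(3,0,true),(2,16,true),(5,10,true),(4,11,true),(3,12,true),(6,6,true),(5,7,true),(4,8,true),(7,3,true),(6,4,true),(5,5,true),(6,1,true),(5,2,true),(5,2,false),(6,1,false),(4,7,false),(5,6,false),(3,11,false),(4,10,false),(1,26,false),(2,22,false),(3,0,false),(2,1,false),(2,2,false),(3,1,false),(2,5,false),(3,4,false),(2,9,false),(3,8,false),(4,7,false),(5,0,false),(3,0,false),(2,6,false),(2,14,false),(3,13,false),(4,12,false),(5,11,false),(6,10,false),(1,27,false),(0,51,false),(1,50,false),(2,49,false),(3,48,false),(4,47,false),(5,46,false),(9,55,false),(6,56,false),(0,57,false)])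

/-- a word rewritten in two ways -/
def eq39 : List ℕ × List (ℕ × ℕ × Bool) × List (ℕ × ℕ × Bool) :=
  ([10,6,6],
   [(1,27,true)],
   [(0,57,true),(6,57,true),(5,22,true),(4,23,true),(3,24,true),(2,25,true),(1,26,true),(0,27,true),(3,3,true),(4,1,true),(5,0,true),(4,16,true),(3,17,true),(2,18,true),(1,19,true),(0,20,true),(2,6,true),(1,8,true),(3,3,true),(2,5,true),(2,3,true),(3,1,true),(4,0,true),(3,11,true),(2,12,true),(1,13,true),(0,14,true),(0,6,true),(1,0,true),(2,7,true),(1,8,true),(0,9,true),(1,4,true),(0,5,true),(0,2,true)])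

/-- a word rewritten in two ways -/
def eq40 : List ℕ × List (ℕ × ℕ × Bool) × List (ℕ × ℕ × Bool) :=
  ([10,1,3,2],
   [(1,7,true),(2,4,true)],
   [(0,56,true),(3,58,true),(2,45,true),(1,46,true),(0,54,true),(1,36,true),(0,37,true),(4,28,true),(3,29,true),(2,31,true),(1,34,true),(6,6,true),(5,7,true),(4,8,true),(3,9,true),(5,6,true),(4,7,true),(3,8,true),(6,1,true),(5,2,true),(5,0,true),(5,21,true),(4,23,true),(3,24,true),(2,25,true),(5,3,true),(6,0,true),(5,12,true),(4,13,true),(3,14,true),(3,6,true),(4,0,true),(6,0,false),(5,1,false),(5,2,false),(6,1,false),(4,0,false),(3,6,false),(3,14,false),(4,13,false),(5,12,false),(6,11,false),(7,0,false),(6,1,false),(5,3,false),(2,25,false),(3,24,false),(4,23,false),(5,22,false),(6,0,false),(1,34,false),(2,28,false),(0,54,false),(1,53,false),(2,52,false),(3,51,false),(4,49,false),(5,46,false),(6,56,false),(0,58,false)])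

/-- a word rewritten in two ways -/
def eq41 : List ℕ × List (ℕ × ℕ × Bool) × List (ℕ × ℕ × Bool) :=
  ([10,3,2,3,2],
   [(2,8,true),(1,9,true),(1,5,true)],
   [(0,58,true),(6,58,true),(5,46,true),(4,49,true),(3,51,true),(2,52,true),(1,53,true),(0,54,true),(2,28,true),(1,34,true),(6,0,true),(5,22,true),(4,23,true),(3,24,true),(2,25,true),(5,3,true),(6,1,true),(7,0,true),(6,11,true),(5,12,true),(4,13,true),(3,14,true),(3,6,true),(4,0,true),(6,1,true),(5,2,true),(5,36,true),(4,38,true),(3,39,true),(2,42,true),(1,43,true),(0,44,true),(2,31,true),(1,33,true),(0,34,true),(5,15,true),(4,16,true),(3,17,true),(2,18,true),(1,19,true),(4,6,true),(3,8,true),(5,3,true),(4,5,true),(4,3,true),(5,1,true),(6,0,true),(6,6,true),(5,7,true),(4,8,true),(3,9,true),(5,15,true),(4,16,true),(3,17,true),(2,19,true),(1,20,true),(3,3,true),(2,5,true),(2,3,true),(3,1,true),(4,0,true),(4,6,true),(3,7,true),(2,8,true),(5,3,true),(4,4,true),(3,5,true),(4,0,true),(3,11,true),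(2,13,true),(1,14,true),(1,6,true),(2,0,true),(2,7,true),(1,9,true),(1,4,true),(2,2,true),(2,21,true),(1,23,true),(3,10,true),(2,12,true),(4,1,true),(5,3,true),(4,4,true),(3,5,true),(4,0,true),(3,29,true),(2,32,true),(1,34,true),(0,35,true),(4,21,true),(3,22,true),(2,23,true),(1,24,true),(0,25,true),(3,3,true),(4,1,true),(5,0,true),(5,3,true),(4,4,true),(3,5,true),(4,1,true),(3,2,true),(3,6,true),(2,9,true),(2,1,true),(3,0,true),(2,22,true),(1,25,true),(0,27,true),(2,10,true),(1,11,true),(0,14,true),(0,1,true),(1,0,true),(0,2,true)])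

/-- a word rewritten in two ways -/
def eq42 : List ℕ × List (ℕ × ℕ × Bool) × List (ℕ × ℕ × Bool) :=
  ([10,1,4,2],
   [(1,11,true),(2,4,true)],
   [(0,56,true),(3,59,true),(2,36,true),(1,37,true),(5,28,true),(4,29,true),(3,31,true),(2,34,true),(7,6,true),(6,7,true),(5,8,true),(4,9,true),(6,6,true),(5,7,true),(4,8,true),(7,1,true),(6,2,true),(6,0,true),(6,21,true),(5,23,true),(4,24,true),(3,25,true),(6,3,true),(7,0,true),(6,5,true),(7,0,false),(6,1,false),(6,2,false),(7,1,false),(6,5,false),(7,4,false),(8,0,false),(7,1,false),(6,3,false),(3,25,false),(4,24,false),(5,23,false),(6,22,false),(7,0,false),(2,34,false),(3,28,false),(0,53,false),(1,52,false),(2,51,false),(3,47,false),(4,46,false),(5,56,false),(0,59,false)])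

/-- a word rewritten in two ways -/
def eq43 : List ℕ × List (ℕ × ℕ × Bool) × List (ℕ × ℕ × Bool) :=
  ([10,6,4,2],
   [],
   [(0,57,true),(6,59,true),(5,37,true),(4,38,true),(3,39,true),(2,40,true),(1,41,true),(0,42,true),(5,15,true),(4,16,true),(3,17,true),(2,18,true),(1,19,true),(4,6,true),(3,8,true),(5,3,true),(4,5,true),(4,3,true),(5,1,true),(6,0,true),(6,3,true),(5,4,true),(4,5,true),(5,0,true),(4,22,true),(3,24,true),(2,25,true),(1,26,true),(5,1,true),(6,0,true),(5,11,true),(4,13,true),(3,14,true),(3,6,true),(4,0,true),(4,7,true),(3,9,true),(3,4,true),(5,21,true),(4,22,true),(3,23,true),(2,26,true),(1,27,true),(4,0,true),(3,11,true),(2,12,true),(4,2,true),(3,5,true),(2,25,true),(1,26,true),(5,29,true),(4,31,true),(3,32,true),(2,33,true),(1,34,true),(6,15,true),(5,16,true),(4,17,true),(3,18,true),(2,19,true),(5,6,true),(4,8,true),(6,3,true),(5,5,true),(5,3,true),(6,1,true),(7,0,true),(7,21,true),(6,22,true),(5,23,true),(4,24,true),(3,25,true),(2,26,true),(6,3,true),(7,1,true),(8,0,true),(8,3,true),(7,4,true),(6,5,true),(7,1,true),(6,2,true),(6,6,true),(5,9,true),(5,6,true),(6,1,true),(7,0,true),(6,22,true),(5,24,true),(4,25,true),(3,26,true),(2,27,true),(5,1,true),(6,0,true),(5,4,true),(6,2,true),(6,2,false),(5,4,false),(4,7,false),(3,11,false),(4,0,false),(3,5,false),(2,17,false),(3,16,false),(4,15,false),(2,27,false),(3,23,false),(4,22,false),(5,57,false),(0,59,false),(2,23,true),(1,25,true)])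

/-- a word rewritten in two ways -/
def eq44 : List ℕ × List (ℕ × ℕ × Bool) × List (ℕ × ℕ × Bool) :=
  ([10,1,9,2],
   [(1,46,true),(2,4,true)],
   [(0,56,true),(3,60,true),(2,36,true),(1,37,true),(5,28,true),(4,29,true),(3,31,true),(2,34,true),(7,6,true),(6,7,true),(5,8,true),(4,9,true),(6,6,true),(5,7,true),(4,8,true),(7,1,true),(6,2,true),(6,0,true),(6,10,true),(5,12,true),(4,13,true),(3,14,true),(3,6,true),(4,0,true),(5,6,true),(4,8,true),(3,9,true),(4,3,true),(3,5,true),(3,2,false),(4,0,false),(3,5,false),(4,4,false),(5,3,false),(3,9,false),(4,8,false),(5,7,false),(6,6,false),(4,0,false),(3,6,false),(3,14,false),(4,13,false),(5,12,false),(6,11,false),(7,0,false),(2,34,false),(3,28,false),(0,53,false),(1,52,false),(2,49,false),(3,48,false),(4,47,false),(5,56,false),(0,60,false)])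

/-- a word rewritten in two ways -/
def eq45 : List ℕ × List (ℕ × ℕ × Bool) × List (ℕ × ℕ × Bool) :=
  ([10,3,2,9,2],
   [(2,47,true),(1,48,true),(4,3,true),(3,5,true)],
   [(0,58,true),(6,60,true),(5,37,true),(4,40,true),(3,42,true),(2,43,true),(1,44,true),(3,31,true),(2,33,true),(1,34,true),(6,15,true),(5,16,true),(4,17,true),(3,18,true),(2,19,true),(5,6,true),(4,8,true),(6,3,true),(5,5,true),(5,3,true),(6,1,true),(7,0,true),(7,6,true),(6,7,true),(5,8,true),(4,9,true),(6,15,true),(5,16,true),(4,17,true),(3,19,true),(2,20,true),(4,3,true),(3,5,true),(3,3,true),(4,1,true),(5,0,true),(5,6,true),(4,7,true),(3,8,true),(6,3,true),(5,4,true),(4,5,true),(5,0,true),(4,11,true),(3,13,true),(2,14,true),(2,6,true),(3,0,true),(3,7,true),(2,9,true),(2,4,true),(3,2,true),(3,21,true),(2,23,true),(4,10,true),(3,12,true),(5,6,true),(4,8,true),(6,3,true),(5,5,true),(5,0,true),(4,24,true),(3,25,true),(2,27,true),(4,6,true),(3,9,true),(3,1,true),(4,28,true),(3,29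,true),(2,32,true),(1,35,true),(3,7,true),(2,8,true),(4,2,true),(4,0,true),(3,12,true),(2,13,true),(4,3,true),(5,6,true),(4,8,true),(3,9,true),(4,3,true),(3,5,true),(3,2,false),(4,1,false),(3,9,false),(4,7,false),(5,6,false),(4,1,false),(2,13,false),(3,11,false),(4,0,false),(3,1,false),(1,24,false),(2,22,false),(2,0,false),(1,6,false),(1,14,false),(2,13,false),(3,0,false),(1,27,false),(2,25,false),(3,24,false),(4,21,false),(4,2,false),(5,1,false),(4,5,false),(5,4,false),(6,3,false),(6,0,false),(5,1,false),(4,3,false),(1,25,false),(2,24,false),(3,23,false),(4,22,false),(5,21,false),(1,35,false),(2,34,false),(3,32,false),(4,2,false),(4,9,false),(5,7,false),(6,0,false),(5,1,false),(2,25,false),(3,24,false),(4,22,false),(5,0,false),(4,5,false),(5,4,false),(6,3,false),(3,8,false),(4,7,false),(5,6,false),(5,0,false),(4,1,false),(3,3,false),(3,5,false),(4,3,false),(2,20,false),(3,19,false),(4,17,false),(5,16,false),(6,15,false),(4,9,false),(5,8,false),(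6,7,false),(7,6,false),(7,0,false),(6,1,false),(5,3,false),(5,5,false),(6,3,false),(4,8,false),(5,6,false),(2,19,false),(3,18,false),(4,17,false),(5,16,false),(6,15,false),(1,34,false),(2,33,false),(3,31,false),(1,44,false),(2,43,false),(3,37,false),(4,0,false),(3,5,false),(4,4,false),(5,3,false),(3,9,false),(4,8,false),(5,7,false),(6,6,false),(4,0,false),(3,6,false),(3,14,false),(4,13,false),(5,12,false),(6,11,false),(7,0,false),(2,34,false),(3,28,false),(0,53,false),(1,52,false),(2,49,false),(3,48,false),(4,47,false),(11,55,false),(5,58,false),(0,60,false),(2,8,true),(3,5,true)])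

/-- a word rewritten in two ways -/
def eq46 : List ℕ × List (ℕ × ℕ × Bool) × List (ℕ × ℕ × Bool) :=
  ([10,9,2,9,2],
   [(2,47,true),(1,54,true),(2,3,true),(1,5,true)],
   [(0,60,true),(5,60,true),(4,38,true),(3,39,true),(2,40,true),(1,43,true),(0,44,true),(2,31,true),(1,33,true),(0,34,true),(5,15,true),(4,16,true),(3,17,true),(2,18,true),(1,19,true),(4,6,true),(3,8,true),(5,3,true),(4,5,true),(4,3,true),(5,1,true),(6,0,true),(6,6,true),(5,7,true),(4,8,true),(3,9,true),(5,15,true),(4,16,true),(3,17,true),(2,19,true),(1,20,true),(3,3,true),(2,5,true),(2,3,true),(3,1,true),(4,0,true),(4,6,true),(3,7,true),(2,8,true),(5,3,true),(4,4,true),(3,5,true),(4,0,true),(3,22,true),(2,24,true),(1,25,true),(4,1,true),(5,0,true),(4,11,true),(3,13,true),(2,14,true),(2,6,true),(3,0,true),(3,7,true),(2,9,true),(2,4,true),(4,21,true),(3,22,true),(2,23,true),(1,27,true),(3,0,true),(2,11,true),(1,12,true),(3,2,true),(2,5,true),(1,32,true),(0,35,true),(2,11,true),(1,12,true),(3,7,true),(2,8,true),(4,4,true),(3,5,true),(0,55,false)])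

/-- a word rewritten in two ways -/
def eq47 : List ℕ × List (ℕ × ℕ × Bool) × List (ℕ × ℕ × Bool) :=
  ([10,1,8,7,5],
   [(1,37,true),(4,29,true),(3,31,true),(2,34,true),(7,6,true),(6,7,true),(5,8,true),(4,9,true),(6,6,true),(5,7,true),(4,8,true),(7,1,true),(6,2,true),(6,0,true),(5,17,true),(4,18,true),(3,19,true),(6,6,true),(5,8,true),(7,3,true),(6,5,true)],
   [(0,56,true),(3,61,true),(2,36,true),(1,37,true),(5,10,true),(4,11,true),(3,13,true),(5,1,true),(6,0,true),(5,7,true),(4,9,true),(4,4,true),(5,1,false),(4,9,false),(5,8,false),(6,6,false),(5,3,false),(3,13,false),(4,12,false),(5,0,false),(4,3,false),(2,24,false),(3,23,false),(4,21,false),(4,2,false),(5,1,false),(3,0,false),(2,6,false),(2,14,false),(3,13,false),(4,12,false),(5,11,false),(6,10,false),(6,0,false),(5,1,false),(4,3,false),(2,27,false),(3,25,false),(4,24,false),(5,23,false),(6,22,false),(7,21,false),(7,0,false),(6,1,false),(4,8,false),(5,6,false),(4,3,false),(4,9,false),(5,6,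false),(5,2,false),(6,1,false),(5,5,false),(6,4,false),(7,3,false),(7,0,false),(6,1,false),(5,3,false),(2,25,false),(3,24,false),(4,23,false),(5,22,false),(6,21,false),(2,35,false),(3,34,false),(4,32,false),(5,31,false),(6,30,false),(7,29,false),(8,28,false),(6,4,false),(6,0,false),(4,13,false),(5,10,false),(3,24,false),(4,0,false),(4,5,false),(5,3,false),(3,20,false),(4,18,false),(5,17,false),(6,15,false),(1,43,false),(2,41,false),(3,39,false),(4,38,false),(5,36,false),(5,2,false),(6,0,false),(4,0,false),(3,6,false),(3,14,false),(4,13,false),(5,12,false),(6,11,false),(7,10,false),(2,27,false),(0,52,false),(1,51,false),(2,50,false),(3,49,false),(4,46,false),(5,45,false),(4,1,false),(4,5,false),(5,3,false),(1,26,false),(2,25,false),(3,23,false),(4,21,false),(4,0,false),(4,2,false),(5,1,false),(3,9,false),(4,8,false),(5,7,false),(6,6,false),(6,0,false),(5,1,false),(4,3,false),(4,5,false),(5,3,false),(3,8,false),(4,6,false),(1,19,false),(2,18,false),(3,17,false),(4,16,false),(5,15,false),(0,34,false),(1,33,false),(2,29,false),(3,28,false),(2,5,false),(3,4,false),(3,0,false),(2,3,false),(2,14,false),(3,12,false),(4,10,false),(0,26,false),(1,25,false),(2,23,false),(3,21,false),(2,9,false),(3,0,false),(1,13,false),(2,10,false),(0,27,false),(1,26,false),(2,24,false),(0,44,false),(1,40,false),(2,39,false),(3,38,false),(4,36,false),(16,55,false),(10,58,false),(5,59,false),(0,61,false),(5,8,true),(6,5,true)])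

/-- a word rewritten in two ways -/
def eq48 : List ℕ × List (ℕ × ℕ × Bool) × List (ℕ × ℕ × Bool) :=
  ([10,3,2,8,7,5],
   [(2,38,true),(1,39,true),(4,4,true),(5,29,true),(4,30,true),(3,32,true),(2,34,true),(7,21,true),(6,22,true),(5,23,true),(4,24,true),(3,25,true),(6,3,true),(7,1,true),(8,0,true),(8,3,true),(7,4,true),(6,5,true),(7,1,true),(6,2,true),(6,3,true),(7,6,true),(6,8,true),(5,9,true),(6,1,true),(7,0,true),(6,16,true),(5,17,true),(4,19,true),(7,3,true),(6,5,true),(6,3,true),(7,1,true),(8,0,true)],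
   [(0,58,true),(6,61,true),(5,37,true),(4,40,true),(3,42,true),(2,43,true),(1,44,true),(3,31,true),(2,33,true),(1,34,true),(6,15,true),(5,16,true),(4,17,true),(3,18,true),(2,19,true),(5,6,true),(4,8,true),(6,3,true),(5,5,true),(5,3,true),(6,1,true),(7,0,true),(7,6,true),(6,7,true),(5,8,true),(4,9,true),(6,15,true),(5,16,true),(4,17,true),(3,19,true),(2,20,true),(4,3,true),(3,5,true),(3,3,true),(4,1,true),(5,0,true),(5,6,true),(4,7,true),(3,8,true),(6,3,true),(5,4,true),(4,5,true),(5,0,true),(4,11,true),(3,13,true),(2,14,true),(2,6,true),(3,0,true),(3,7,true),(2,9,true),(2,4,true),(3,2,true),(3,21,true),(2,23,true),(4,10,true),(3,12,true),(5,6,true),(4,8,true),(6,3,true),(5,5,true),(5,0,true),(4,24,true),(3,25,true),(2,27,true),(4,6,true),(3,9,true),(3,1,true),(4,10,true),(3,11,true),(2,14,true),(2,1,true),(3,0,true),(2,7,true),(3,4,true),(4,0,false),(0,52,false),(1,48,false),(2,47,false),(3,45,false),(3,2,false),(4,1,false),(2,4,false),(3,3,fal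se),(1,7,false),(2,6,false),(1,1,false),(1,14,false),(2,11,false),(3,0,false),(2,1,false),(2,5,false),(3,3,false),(1,20,false),(2,19,false),(3,16,false),(4,0,false),(1,27,false),(2,26,false),(3,25,false),(4,22,false),(5,21,false),(4,1,false),(4,5,false),(5,3,false),(1,26,false),(2,25,false),(3,23,false),(4,21,false),(4,0,false),(4,2,false),(5,1,false),(3,9,false),(4,8,false),(5,7,false),(6,6,false),(6,0,false),(5,1,false),(4,3,false),(4,5,false),(5,3,false),(3,8,false),(4,6,false),(1,19,false),(2,18,false),(3,17,false),(4,16,false),(5,15,false),(0,34,false),(1,33,false),(2,29,false),(3,28,false),(2,5,false),(3,4,false),(3,0,false),(2,3,false),(2,14,false),(3,12,false),(4,10,false),(0,26,false),(1,25,false),(2,23,false),(3,21,false),(2,9,false),(3,0,false),(1,13,false),(2,10,false),(0,27,false),(1,26,false),(2,24,false),(0,44,false),(1,40,false),(2,39,false),(3,38,false),(4,36,false),(16,56,false),(10,57,false),(5,59,false),(0,61,false),(5,23,true),(4,25,true),(3,26,true)])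

/-- a word rewritten in two ways -/
def eq49 : List ℕ × List (ℕ × ℕ × Bool) × List (ℕ × ℕ × Bool) :=
  ([10,8,7,5,8,7,5],
   [(3,41,true),(2,43,true),(1,44,true),(3,31,true),(2,33,true),(1,34,true),(6,15,true),(5,16,true),(4,17,true),(3,18,true),(2,19,true),(5,6,true),(4,8,true),(6,3,true),(5,5,true),(5,3,true),(6,1,true),(7,0,true),(7,6,true),(6,7,true),(5,8,true),(4,9,true),(6,15,true),(5,16,true),(4,17,true),(3,19,true),(2,20,true),(4,3,true),(3,5,true),(3,3,true),(4,1,true),(5,0,true),(5,6,true),(4,7,true),(3,8,true),(6,3,true),(5,4,true),(4,5,true),(5,0,true),(4,16,true),(3,18,true),(2,19,true),(5,6,true),(4,8,true),(6,3,true),(5,5,true),(5,1,true),(6,0,true),(5,4,true),(7,28,true),(6,29,true),(5,30,true),(4,31,true),(3,32,true),(2,33,true),(1,35,true),(1,26,true),(4,7,true),(3,8,true),(5,4,true),(4,5,true),(4,7,true),(3,9,true),(3,2,true),(3,0,true),(2,20,true)],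
   [(0,61,true),(5,61,true),(4,36,true),(3,38,true),(2,39,true),(1,40,true),(0,44,true),(2,24,true),(1,26,true),(0,27,true),(2,10,true),(1,13,true),(3,0,true),(2,9,true),(3,21,true),(2,23,true),(1,25,true),(0,26,true),(4,10,true),(3,12,true),(2,14,true),(2,3,true),(3,0,true),(3,4,true),(2,5,true),(3,10,true),(2,11,true),(4,6,true),(3,7,true),(5,3,true),(4,4,true),(6,0,true),(0,57,false)])

/-- a word rewritten in two ways -/
def eq50 : List ℕ × List (ℕ × ℕ × Bool) × List (ℕ × ℕ × Bool) :=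
  ([11,2,6],
   [(1,23,true)],
   [(0,63,true),(7,66,true),(6,21,true),(5,22,true),(4,23,true),(3,24,true),(2,25,true),(1,26,true),(0,27,true),(3,3,true),(4,1,true),(5,0,true),(5,15,true),(4,16,true),(3,17,true),(2,18,true),(1,19,true),(0,20,true),(2,6,true),(1,8,true),(3,3,true),(2,5,true),(2,3,true),(3,1,true),(4,0,true),(4,3,true),(3,4,true),(2,5,true),(2,5,false),(1,8,false),(0,12,false),(0,20,false),(1,17,false),(0,27,false),(1,26,false),(2,23,false),(3,63,false),(0,66,false)])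

/-- a word rewritten in two ways -/
def eq51 : List ℕ × List (ℕ × ℕ × Bool) × List (ℕ × ℕ × Bool) :=
  ([11,3,6],
   [(1,24,true)],
   [(0,64,true),(7,66,true),(6,22,true),(5,23,true),(4,24,true),(3,25,true),(2,26,true),(1,27,true),(4,3,true),(5,1,true),(6,0,true),(5,16,true),(4,17,true),(3,18,true),(2,19,true),(1,20,true),(3,6,true),(2,8,true),(4,3,true),(3,5,true),(3,3,true),(4,1,true),(5,0,true),(4,4,true),(3,5,true),(4,0,false),(3,1,false),(3,5,false),(4,3,false),(2,8,false),(3,6,false),(1,12,false),(2,10,false),(1,27,false),(2,23,false),(3,21,false),(3,2,false),(4,1,false),(2,4,false),(3,3,false),(2,9,false),(3,7,false),(4,6,false),(3,0,false),(2,6,false),(2,14,false),(3,13,false),(4,11,false),(5,10,false),(5,0,false),(4,1,false),(4,5,false),(5,3,false),(3,8,false),(4,6,false),(2,20,false),(3,19,false),(4,18,false),(5,16,false),(6,15,false),(6,0,false),(5,1,false),(1,26,false),(2,25,false),(3,24,false),(4,22,false),(5,21,false),(4,5,false),(5,4,false),(6,3,false),(6,0,false),(5,1,false),(4,3,false),(4,5,false),(5,3,false),(3,8,false),(4,6,false),(1,19,false),(2,18,false),(3,17,false),(4,16,false),(5,15,false),(0,34,false),(1,33,false),(2,30,false),(10,62,false),(3,64,false),(0,66,false)])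

/-- a word rewritten in two ways -/
def eq52 : List ℕ × List (ℕ × ℕ × Bool) × List (ℕ × ℕ × Bool) :=
  ([11,6,7],
   [(1,34,true)],
   [(0,66,true),(3,68,true),(2,30,true),(1,33,true),(0,34,true),(5,15,true),(4,16,true),(3,17,true),(2,18,true),(1,19,true),(4,6,true),(3,8,true),(5,3,true),(4,5,true),(4,3,true),(5,1,true),(6,0,true),(6,3,true),(5,4,true),(4,5,true),(5,21,true),(4,22,true),(3,24,true),(2,25,true),(1,26,true),(5,1,true),(6,0,true),(6,15,true),(5,16,true),(4,18,true),(3,19,true),(2,20,true),(4,6,true),(3,8,true),(5,3,true),(4,5,true),(4,1,true),(5,0,true),(5,10,true),(4,11,true),(3,13,true),(2,14,true),(2,6,true),(3,0,true),(4,1,true),(3,2,true),(3,0,true),(3,0,false),(3,2,false),(4,1,false),(3,5,false),(4,4,false),(5,3,false),(2,8,false),(3,7,false),(4,6,false),(3,1,false),(2,3,false),(2,14,false),(3,12,false),(4,11,false),(5,0,false),(1,25,false),(2,23,false),(3,22,false),(4,21,false),(2,9,false),(3,0,false),(1,13,false),(2,10,fal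se),(1,20,false),(2,18,false),(3,15,false),(1,27,false),(2,26,false),(3,24,false),(4,2,false),(4,5,false),(5,4,false),(3,8,false),(4,7,false),(5,0,false),(4,1,false),(3,3,false),(3,14,false),(4,12,false),(5,11,false),(6,10,false),(6,0,false),(5,1,false),(4,3,false),(4,5,false),(5,3,false),(2,19,false),(3,17,false),(4,16,false),(5,15,false),(1,25,false),(2,23,false),(3,22,false),(4,0,false),(2,9,false),(3,8,false),(4,7,false),(5,6,false),(0,34,false),(1,31,false),(2,28,false),(2,2,false),(1,7,false),(2,0,false),(1,1,false),(1,14,false),(2,11,false),(3,10,false),(3,0,false),(2,1,false),(2,5,false),(3,3,false),(1,20,false),(2,19,false),(3,16,false),(4,15,false),(4,0,false),(3,1,false),(3,9,false),(4,6,false),(4,2,false),(5,1,false),(4,5,false),(5,4,false),(6,3,false),(6,0,false),(5,1,false),(4,3,false),(0,26,false),(1,25,false),(2,24,false),(3,23,false),(4,22,false),(5,21,false),(5,0,false),(4,1,false),(3,3,false),(3,5,false),(4,3,false),(2,8,false),(3,6,false),(0,19,false),(1,18,false),(2,17,false),(3,16,false),(4,15,false),(0,35,false),(1,34,false),(2,33,false),(3,32,false),(4,29,false),(5,28,false),(26,62,false),(19,63,false),(12,64,false),(6,67,false),(0,68,false),(3,7,true),(4,4,true)])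

/-- a word rewritten in two ways -/
def eq53 : List ℕ × List (ℕ × ℕ × Bool) × List (ℕ × ℕ × Bool) :=
  ([11,3,9],
   [(1,48,true)],
   [(0,64,true),(7,69,true),(6,46,true),(5,47,true),(4,48,true),(3,49,true),(2,50,true),(1,51,true),(0,52,true),(2,27,true),(7,10,true),(6,11,true),(5,12,true),(4,13,true),(3,14,true),(3,6,true),(4,0,true),(6,0,true),(5,7,true),(4,8,true),(3,9,true),(4,4,true),(3,5,true),(4,1,true),(3,2,true),(3,28,true),(2,33,true),(1,35,true),(2,15,true),(1,20,true),(1,10,true),(2,1,true),(3,0,true),(2,5,false),(2,9,false),(3,8,false),(4,0,false),(3,3,false),(1,13,false),(2,12,false),(3,10,false),(1,20,false),(2,18,false),(3,17,false),(4,15,false),(3,3,false),(1,27,false),(2,26,false),(3,24,false),(4,23,false),(5,0,false),(5,2,false),(3,8,false),(4,7,false),(1,26,false),(1,35,false),(2,33,false),(3,32,false),(4,29,false),(5,28,false),(6,64,false),(0,69,false)])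

/-- a word rewritten in two ways -/
def eq54 : List ℕ × List (ℕ × ℕ × Bool) × List (ℕ × ℕ × Bool) :=
  ([11,3,8,1],
   [(1,39,true),(4,2,true)],
   [(0,64,true),(7,70,true),(6,37,true),(5,38,true),(4,39,true),(3,40,true),(2,41,true),(1,42,true),(0,43,true),(5,10,true),(4,12,true),(3,13,true),(5,3,true),(6,0,true),(5,8,true),(4,9,true),(4,5,true),(5,15,true),(4,16,true),(3,19,true),(2,20,true),(4,3,true),(3,5,true),(3,1,true),(4,0,true),(4,3,true),(3,4,true),(5,0,true),(4,22,true),(3,23,true),(2,25,true),(6,10,true),(5,11,true),(4,12,true),(3,14,true),(3,3,true),(4,1,true),(5,0,true),(4,7,true),(3,8,true),(5,4,true),(4,5,true),(5,21,true),(4,22,true),(3,24,true),(2,27,true),(3,1,true),(4,0,true),(4,10,true),(3,11,true),(2,13,true),(4,1,true),(5,0,true),(4,2,true),(4,23,true),(3,24,true),(2,25,true),(5,3,true),(6,6,true),(5,8,true),(4,9,true),(5,1,true),(6,15,true),(5,16,true),(4,17,true),(3,19,true),(6,3,true),(5,5,true),(5,3,true),(6,1,true),(7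,0,true),(7,6,true),(6,7,true),(5,8,true),(8,3,true),(7,4,true),(6,5,true),(7,1,true),(6,2,true),(6,0,true),(6,5,false),(7,0,false),(5,8,false),(6,6,false),(3,19,false),(4,18,false),(5,15,false),(2,25,false),(3,24,false),(4,0,false),(4,2,false),(5,1,false),(3,7,false),(4,6,false),(2,11,false),(3,10,false),(2,5,false),(2,20,false),(3,17,false),(4,16,false),(5,0,false),(3,9,false),(4,8,false),(1,33,false),(2,31,false),(3,30,false),(4,29,false),(5,28,false),(12,66,false),(6,67,false),(0,70,false),(2,11,true),(3,2,true),(2,25,true)])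

/-- a word rewritten in two ways -/
def eq55 : List ℕ × List (ℕ × ℕ × Bool) × List (ℕ × ℕ × Bool) :=
  ([11,7,8,1],
   [(1,43,true),(6,1,true)],
   [(0,68,true),(6,70,true),(5,36,true),(4,37,true),(3,40,true),(2,41,true),(1,42,true),(0,43,true),(5,10,true),(4,12,true),(3,13,true),(5,3,true),(6,0,true),(5,8,true),(4,9,true),(4,5,true),(5,15,true),(4,16,true),(3,19,true),(2,20,true),(4,3,true),(3,5,true),(3,1,true),(4,0,true),(4,3,true),(3,4,true),(5,0,true),(4,22,true),(3,23,true),(2,25,true),(6,10,true),(5,11,true),(4,12,true),(3,14,true),(3,3,true),(4,1,true),(5,0,true),(4,7,true),(3,8,true),(5,4,true),(4,5,true),(5,21,true),(4,22,true),(3,24,true),(2,27,true),(3,1,true),(4,0,true),(4,6,true),(3,7,true),(2,9,true),(3,1,true),(2,2,true),(2,0,true),(3,0,false),(3,14,false),(4,10,false),(2,27,false),(3,26,false),(4,25,false),(5,21,false),(5,5,false),(6,0,false),(3,19,false),(4,15,false),(4,2,false),(3,11,false),(4,0,false),(3,5,false),(3,20,false),(4,17,false),(5,16,false),(6,15,false),(2,26,false),(3,23,false),(4,22,false),(5,0,false),(3,9,false),(4,8,false),(1,33,false),(2,31,false),(3,30,false),(4,29,false),(5,28,false),(15,62,false),(12,65,false),(6,68,false),(0,70,false),(2,29,true),(5,15,true),(4,16,true),(3,18,true),(7,0,true)])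

/-- a word rewritten in two ways -/
def eq56 : List ℕ × List (ℕ × ℕ × Bool) × List (ℕ × ℕ × Bool) :=
  ([11,9,8,1],
   [],
   [(0,69,true),(6,70,true),(5,36,true),(4,37,true),(3,40,true),(2,41,true),(1,43,true),(6,15,true),(5,17,true),(4,18,true),(3,20,true),(5,3,true),(4,5,true),(4,0,true),(3,24,true),(5,10,true),(4,13,true),(6,0,true),(5,9,true),(6,21,true),(5,23,true),(4,25,true),(3,27,true),(5,6,true),(4,8,true),(6,1,true),(7,0,true),(6,16,true),(5,17,true),(4,18,true),(3,19,true),(6,6,true),(5,8,true),(7,3,true),(6,5,true),(6,3,true),(7,1,true),(8,0,true),(7,7,true),(6,8,true),(5,9,true),(6,4,true),(5,5,true),(5,2,true),(5,5,false),(6,3,false),(3,19,false),(3,27,false),(4,25,false),(5,0,false),(5,2,false),(6,1,false),(4,11,false),(5,10,false),(4,5,false),(4,20,false),(5,17,false),(6,16,false),(3,26,false),(2,33,false),(3,32,false),(4,0,false),(4,2,false),(5,1,false),(4,5,false),(5,4,false),(4,9,false),(5,8,false),(6,7,false),(7,0,false),(6,1,false),(5,3,false),(4,6,false),(3,10,false),(2,15,false),(2,27,false),(3,21,false),(0,53,false),(1,50,false),(2,48,false),(3,47,false),(4,46,false),(5,45,false),(12,66,false),(6,69,false),(0,70,false),(2,46,true),(1,53,true),(4,1,true),(5,21,true),(4,22,true),(3,27,true),(4,0,true)])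

/-- the certificate -/
def cert : Schur.TwoCert.Cert where
  n := 10
  rules := rules
  eqs := [eq0,eq1,eq2,eq3,eq4,eq5,eq6,eq7,eq8,eq9,eq10,eq11,eq12,eq13,eq14,eq15,eq16,eq17,eq18,eq19,eq20,eq21,eq22,eq23,eq24,eq25,eq26,eq27,eq28,eq29,eq30,eq31,eq32,eq33,eq34,eq35,eq36,eq37,eq38,eq39,eq40,eq41,eq42,eq43,eq44,eq45,eq46,eq47,eq48,eq49,eq50,eq51,eq52,eq53,eq54,eq55,eq56]
  masks := [8,64,2097216,2098242,32840,59,3,707,155189891,264,8388864,2,50341953,5138,23071129,163873,1342472448,343666851922,175921864677768,272641360,68780304657,35184372088832,2415919617,637975540457,316659348799488,4947970227909,2533274813464641,131336,268435456,171986439,78451769,24264651470,6184931491701,3166593527841792,12081070953,3120427531879,1583314300271324,18119951625748483,40462028109868748,132086429,16360941870385809,34442063140636811,15973913777408513,8691659307098,14566538887564931,50108043972607391,54212312209582102,981357143728277543,1085838332525119768,144128234033348566,65900656,4611686045288594079,253642731056149496564,8655360391269713,239807689875985908405,41505182080687351651,73788571905352150604]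
  gauge := [8192,0,73728,536879104,142270857216,8796629966848,137975832576,0,0,0]
  picks := [2112,2048,105384289034012,1,134253106,134253139,2,49308640801362,513,49308640801424,2060,5506618669614,134261310,0,126443855559680,19,0,134218240,9386793635619,1135286969449237,45470617453014,6,5506215459347,1537,49308372873755,46018896859255,1125901383800867,46018494761354,268435456,0,9387062136113,49308376562384,0,45487533181318,96009193262689,1077732415761810,135306806,0,1135287910173440,1265037201954739,39926460905750,52090831019,1221908851637725,0,2241108153095927,2097152,18691899320869,49308374719042,18874368,21990568642567,139204268403115,46018446524492,9056445491078893,9074029032949963,18829340371557]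

/-- words for two generators of a Sylow 3-subgroup and an element normalising it -/
def threeWords : List (List ℕ) := [
  [2,3,4,5,1,2,3,2,1,5,3,2,4],
  [3,2,3,0,1,2,3,6,3,2,1,3,1,2,3,6,3,2,1,0,3,2,3,2,3,0,1,2,3,6,3,2,1,3,1,2,3,6,3,2,1,0,2,3,1,2,3,6,3,2,1,0,3,5,1,2,3,2,1,5,3,6,5,3,2,3,2,5],
  [5,0,1,2,3,6,3,2,1,3,2,3,5,3,0,1,2,3,6,3,2,1,2,3,5,4,2,3,2,4,2,3,2,3,4,5,3,0,1,2,3,6,3,2,1,5,2,3,2,3,1,2,3,6,3,2,0,1,2,3,5,2,3,0,1,2,3,6,3,2,1,3,1,2,3,6,3,2,1,0,3,2,3,2,3,0,1,2,3,6,3,2,1,3,1,2,3,6,3,2,1,0,2,3,5,3,0,1,2,3,6,3,2,1,3,2,4,3,2,1,2,3,2,1,5,3,6,5,3,2,3,2,5]]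

/-- words for two generators of a Sylow 5-subgroup and an element normalising it -/
def fiveWords : List (List ℕ) := [
  [5,2,3,0,1,2,3,6,3,2,1,3,1,2,3,6,3,2,1,0,3,2,3,5,2,3,0,1,2,3,6,3,2,1,3,1,2,3,6,3,2,1,0,3,2,5,2,3,2,5,1,2,3,6,3,2,1,0,3,2,4,1,6,3,2,1,3,2,4,6,3,2,1,3,2,1],
  [5,0,1,2,3,6,3,2,1,3,2,3,5,3,0,1,2,3,6,3,2,1,2,3,5,4,2,3,2,4,5,2,3,0,1,2,3,6,3,2,1,3,1,2,3,6,3,2,1,0,3,2,5,3,2,3,0,1,2,3,6,3,2,1,3,1,2,3,6,3,2,1,0,3,2,3,2,3,2,0,1,2,3,6,3,2,1,3,2,3,1,2,3,6,3,2,1,0,1,2,3,6,3,2,1,0,1,2,3,2,1,3,5,3,2,3,4,3,6],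
  [5,0,1,2,3,6,3,2,1,3,2,3,5,3,0,1,2,3,6,3,2,1,2,3,5,4,2,3,2,4,3,2,3,0,1,2,3,6,3,2,1,3,1,2,3,6,3,2,1,0,3,2,3,5,2,3,0,1,2,3,6,3,2,1,3,1,2,3,6,3,2,1,0,3,2,3,2,3,0,1,2,3,6,3,2,1,3,1,2,3,6,3,2,1,0,2,3,4,5,3,4,6,3,2,4,5]]

/-- words for two generators of a Sylow 7-subgroup and an element normalising it -/
def sevenWords : List (List ℕ) := [
  [2,3,0,1,2,3,6,3,2,1,3,1,2,3,6,3,2,1,0,3,2,3,2,3,0,1,2,3,6,3,2,1,3,1,2,3,6,3,2,1,0,3,2,5,3,2,3,0,1,2,3,6,3,2,1,3,1,2,3,6,3,2,1,0,3,2,5,2,3,2,0,1,2,3,6,3,2,1,3,2,5,0,1,0,6,3,2,1,3,2,3,2,1,4,5],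
  [5,0,1,2,3,6,3,2,1,3,2,3,5,3,0,1,2,3,6,3,2,1,2,3,5,4,2,3,2,4,2,3,0,1,2,3,6,3,2,1,3,1,2,3,6,3,2,1,0,3,2,3,2,3,0,1,2,3,6,3,2,1,3,1,2,3,6,3,2,1,0,3,2,3,5,2,3,2,3,1,2,3,6,3,2,1,0,5,0,1,2,3,6,3,2,1,3,2,3,1,2,3,2,3,5,3,6],
  [2,3,2,3,4,5,3,0,1,2,3,6,3,2,1,5,2,3,2,3,1,2,3,6,3,2,0,1,2,3,2,3,0,1,2,3,6,3,2,1,3,1,2,3,6,3,2,1,0,3,2,3,2,3,0,1,2,3,6,3,2,1,3,1,2,3,6,3,2,1,0,3,2,5,3,2,3,0,1,2,3,6,3,2,1,3,1,2,3,6,3,2,1,0,3,2,3,2,3,0,1,2,3,6,3,2,1,3,1,2,3,6,3,2,1,0,3,2,5,2,3,0,1,2,3,6,3,2,1,3,1,2,3,6,3,2,1,0,2,1,2,6]]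

end CfsgLib.HeMult
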